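import Mathlib

/-!
Base change of exterior powers of Kähler differentials.
-/

set_option linter.style.haveILetI false

universe u

open TensorProduct

namespace Groth.Agent.DeRhamBC

variable {A B : Type u} [CommRing A] [CommRing B] [Algebra A B] {M : Type u} [AddCommGroup M] [Module A M]

theorem baseChange_ι_anticomm (x y : B ⊗[A] M) :
    (ExteriorAlgebra.ι A : M →ₗ[A] _).baseChange B x * (ExteriorAlgebra.ι A : M →ₗ[A] _).baseChange B y +
      (ExteriorAlgebra.ι A : M →ₗ[A] _).baseChange B y * (ExteriorAlgebra.ι A : M →ₗ[A] _).baseChange B x = 0 := by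
  induction x using TensorProduct.induction_on with
  | zero => simp
  | add u v hu hv =>
    rw [map_add, add_mul, mul_add, add_add_add_comm, hu, hv, add_zero]
  | tmul b m =>
    induction y using TensorProduct.induction_on with
    | zero => simp
    | add u v hu hv =>
      rw [map_add, mul_add, add_mul, add_add_add_comm, hu, hv, add_zero]
    | tmul c n =>
      rw [LinearMap.baseChange_tmul, LinearMap.baseChange_tmul, Algebra.TensorProduct.tmul_mul_tmul,
        Algebra.TensorProduct.tmul_mul_tmul, mul_comm c b, ← tmul_add, ExteriorAlgebra.ι_add_mul_swap, tmul_zero]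

theorem baseChange_ι_sq_zero (x : B ⊗[A] M) :
    (ExteriorAlgebra.ι A : M →ₗ[A] _).baseChange B x * (ExteriorAlgebra.ι A : M →ₗ[A] _).baseChange B x = 0 := by
  induction x using TensorProduct.induction_on with
  | zero => simp
  | tmul b m => rw [LinearMap.baseChange_tmul, Algebra.TensorProduct.tmul_mul_tmul, ExteriorAlgebra.ι_sq_zero, tmul_zero]
  | add u v hu hv =>
    rw [map_add, add_mul, mul_add, mul_add, hu, hv, zero_add, add_zero, baseChange_ι_anticomm]

variable (A B M) in
/-- The comparison from the exterior algebra of a base change to the base change of the exterior algebra. -/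
noncomputable def extBC : ExteriorAlgebra B (B ⊗[A] M) →ₐ[B] B ⊗[A] ExteriorAlgebra A M :=
  ExteriorAlgebra.lift B ⟨(ExteriorAlgebra.ι A : M →ₗ[A] _).baseChange B, baseChange_ι_sq_zero⟩

theorem extBC_ιMulti {p : ℕ} (m : Fin p → M) :
    extBC A B M (ExteriorAlgebra.ιMulti B p fun i => (1 : B) ⊗ₜ[A] m i) = (1 : B) ⊗ₜ[A] ExteriorAlgebra.ιMulti A p m := by
  rw [ExteriorAlgebra.ιMulti_apply, ExteriorAlgebra.ιMulti_apply, map_list_prod, List.map_ofFn]
  have h : (⇑(extBC A B M) ∘ fun i => ExteriorAlgebra.ι B ((1 : B) ⊗ₜ[A] m i)) =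
      (Algebra.TensorProduct.includeRight : ExteriorAlgebra A M →ₐ[A] B ⊗[A] ExteriorAlgebra A M) ∘
        fun i => ExteriorAlgebra.ι A (m i) := by
    funext i
    rw [Function.comp_apply, extBC, ExteriorAlgebra.lift_ι_apply]
    exact LinearMap.baseChange_tmul _ _ _
  rw [h, ← List.map_ofFn, ← map_list_prod]
  rfl

theorem injective_lTensor_subtype (p : ℕ) :
    Function.Injective ((⋀[A]^p M).subtype.lTensor B) := by
  let π : ExteriorAlgebra A M →ₗ[A] ⋀[A]^p M :=
    (DirectSum.component A ℕ (fun i => ↥(⋀[A]^i M)) p).comp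
      (DirectSum.decomposeLinearEquiv (fun i : ℕ => ⋀[A]^i M)).toLinearMap
  have h : π.comp (⋀[A]^p M).subtype = LinearMap.id := by
    refine LinearMap.ext fun x => ?_
    show DirectSum.component A ℕ (fun i => ↥(⋀[A]^i M)) p (DirectSum.decompose (fun i : ℕ => ⋀[A]^i M) (x : ExteriorAlgebra A M)) = x
    rw [DirectSum.decompose_coe]
    exact DirectSum.of_eq_same _ _
  refine Function.LeftInverse.injective (g := π.lTensor B) fun z => ?_
  rw [← LinearMap.comp_apply, ← LinearMap.lTensor_comp, h, LinearMap.lTensor_id, LinearMap.id_apply]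

theorem bijective_of_generators {R S : Type u} [CommRing R] [CommRing S] [Algebra R S] [Algebra R A]
    [Algebra R B] [Algebra S B] [IsScalarTower R A B] [IsScalarTower R S B] [Algebra.IsPushout R S A B] (p : ℕ)
    (Φ : S ⊗[R] ↥(⋀[A]^p (Ω[A⁄R])) →+ ↥(⋀[B]^p (Ω[B⁄S])))
    (hΦ : ∀ (s : S) (b₀ : A) (b : Fin p → A),
      Φ (s ⊗ₜ[R] (b₀ • exteriorPower.ιMulti A p fun i => KaehlerDifferential.D R A (b i))) =
        (algebraMap S B s * algebraMap A B b₀) •
          exteriorPower.ιMulti B p fun i => KaehlerDifferential.D S B (algebraMap A B (b i))) :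
    Function.Bijective Φ := by
  let e := KaehlerDifferential.tensorKaehlerEquiv R S A B
  have hgenA : Submodule.span A (Set.range fun b : Fin p → A =>
      exteriorPower.ιMulti A p fun i => KaehlerDifferential.D R A (b i)) = ⊤ := by
    rw [eq_top_iff, ← exteriorPower.ιMulti_span_of_span A p Ω[A⁄R] (KaehlerDifferential.span_range_derivation R A)]
    refine Submodule.span_mono ?_
    rintro _ ⟨a, ha, rfl⟩
    choose b hb using fun i => ha ⟨i, rfl⟩
    exact ⟨b, congrArg _ (funext hb)⟩
  have hind : ∀ x : ↥(⋀[A]^p (Ω[A⁄R])), x ∈ AddSubmonoid.closure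
      (Set.range fun q : A × (Fin p → A) => q.1 • exteriorPower.ιMulti A p fun i => KaehlerDifferential.D R A (q.2 i)) := by
    intro x
    have hx : x ∈ Submodule.span A (Set.range fun b : Fin p → A =>
        exteriorPower.ιMulti A p fun i => KaehlerDifferential.D R A (b i)) := hgenA ▸ Submodule.mem_top
    obtain ⟨c, hc⟩ := (Finsupp.mem_span_range_iff_exists_finsupp).1 hx
    rw [← hc]
    exact AddSubmonoid.sum_mem _ fun b _ => AddSubmonoid.subset_closure ⟨(c b, b), rfl⟩
  constructor
  · let Θ : ExteriorAlgebra B Ω[B⁄S] →ₐ[B] B ⊗[A] ExteriorAlgebra A Ω[A⁄R] :=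
      (extBC A B Ω[A⁄R]).comp (ExteriorAlgebra.map e.symm.toLinearMap)
    let inc : S ⊗[R] ↥(⋀[A]^p (Ω[A⁄R])) → B ⊗[A] ExteriorAlgebra A Ω[A⁄R] := fun z =>
      (⋀[A]^p (Ω[A⁄R])).subtype.lTensor B ((Algebra.IsPushout.cancelBaseChange R S A B _).symm z)
    have hinc : Function.Injective inc :=
      (injective_lTensor_subtype p).comp (Algebra.IsPushout.cancelBaseChange R S A B _).symm.injective
    have hcomp : ∀ z, Θ (Φ z : ExteriorAlgebra B Ω[B⁄S]) = inc z := by
      intro z
      induction z using TensorProduct.induction_on with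
      | zero => simp [inc]
      | add u v hu hv => simp only [inc] at hu hv ⊢; rw [map_add, Submodule.coe_add, map_add, hu, hv, map_add, map_add]
      | tmul s x =>
        induction hind x using AddSubmonoid.closure_induction with
        | zero => simp [inc]
        | add u v _ _ hu hv =>
          simp only [inc] at hu hv ⊢
          rw [tmul_add, map_add, Submodule.coe_add, map_add, hu, hv, map_add, map_add]
        | mem x hx =>
          obtain ⟨⟨b₀, b⟩, rfl⟩ := hx
          simp only [inc]
          rw [hΦ, Submodule.coe_smul, exteriorPower.ιMulti_apply_coe, map_smul,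
            Algebra.IsPushout.cancelBaseChange_symm_tmul, LinearMap.lTensor_tmul, Submodule.subtype_apply,
            Submodule.coe_smul, exteriorPower.ιMulti_apply_coe]
          show _ • extBC A B _ (ExteriorAlgebra.map e.symm.toLinearMap _) = _
          rw [ExteriorAlgebra.map_apply_ιMulti,
            show (e.symm.toLinearMap ∘ fun i => KaehlerDifferential.D S B (algebraMap A B (b i))) =
              fun i => (1 : B) ⊗ₜ[A] KaehlerDifferential.D R A (b i) from funext fun i => by
                apply e.injective
                simp [e],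
            extBC_ιMulti, TensorProduct.smul_tmul', smul_eq_mul, mul_one, ← TensorProduct.smul_tmul,
            Algebra.smul_def, mul_comm]
    intro u v huv
    exact hinc (by rw [← hcomp, ← hcomp, huv])
  · intro y
    have hd : Submodule.span B (Set.range fun a : A => KaehlerDifferential.D S B (algebraMap A B a)) = ⊤ := by
      rw [eq_top_iff]
      rintro w -
      obtain ⟨z, rfl⟩ := e.surjective w
      induction z using TensorProduct.induction_on with
      | zero => simp
      | add u v hu hv => rw [map_add]; exact add_mem hu hv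
      | tmul c m =>
        have hm : m ∈ Submodule.span A (Set.range (KaehlerDifferential.D R A)) :=
          KaehlerDifferential.span_range_derivation R A ▸ Submodule.mem_top
        induction hm using Submodule.span_induction generalizing c with
        | mem m hm =>
          obtain ⟨a, rfl⟩ := hm
          simp only [e, KaehlerDifferential.tensorKaehlerEquiv_tmul_D]
          exact Submodule.smul_mem _ _ (Submodule.subset_span ⟨a, rfl⟩)
        | zero => simp
        | add m n _ _ hm hn => rw [tmul_add, map_add]; exact add_mem (hm c) (hn c)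
        | smul a m _ hm => rw [← TensorProduct.smul_tmul]; exact hm (a • c)
    have hy : y ∈ Submodule.span B (Set.range fun b : Fin p → A =>
        exteriorPower.ιMulti B p fun i => KaehlerDifferential.D S B (algebraMap A B (b i))) := by
      have htop : y ∈ (⊤ : Submodule B ↥(⋀[B]^p (Ω[B⁄S]))) := trivial
      rw [← exteriorPower.ιMulti_span_of_span B p Ω[B⁄S] hd] at htop
      refine Submodule.span_mono ?_ htop
      rintro _ ⟨a, ha, rfl⟩
      choose b hb using fun i => ha ⟨i, rfl⟩
      exact ⟨b, congrArg _ (funext hb)⟩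
    obtain ⟨c, rfl⟩ := (Finsupp.mem_span_range_iff_exists_finsupp).1 hy
    refine (AddMonoidHom.mem_range (f := Φ)).1 (AddSubgroup.sum_mem _ fun b _ => ?_)
    show c b • _ ∈ _
    generalize c b = w
    obtain ⟨w, rfl⟩ := (Algebra.IsPushout.equiv R S A B).surjective w
    induction w using TensorProduct.induction_on with
    | zero => simp
    | add u v hu hv => rw [map_add, add_smul]; exact AddSubgroup.add_mem _ hu hv
    | tmul s a => exact ⟨s ⊗ₜ (a • exteriorPower.ιMulti A p fun i => KaehlerDifferential.D R A (b i)), by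
        rw [hΦ, Algebra.IsPushout.equiv_tmul]⟩

end Groth.Agent.DeRhamBC
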